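import Mathlib
import Groth.Agent.S8220
import Groth.Agent.H83.HopfAux
import Groth.Agent.H1.FinHopf.SubBialg

/-!
# Hopf subalgebras of a commutative Hopf algebra over a field

* `IsHopfSub S` : the subalgebra `S` is stable under comultiplication and antipode;
* `subHopf S hS` : the induced Hopf algebra structure on `↥S`;
* `inclHom` : the inclusion of Hopf subalgebras as a bialgebra map;
* `exists_fg_hopfSub` : every finite set lies in a finitely generated Hopf subalgebra
  (also relative to a given Hopf subalgebra, `exists_fg_hopfSub_le`).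
-/

set_option autoImplicit false
universe u v
open TensorProduct

namespace Groth.Agent.H1.HopfSub
open Groth.Agent.H1.FinHopf

section Anti
variable (k : Type u) [CommRing k] (A : Type v) [CommRing A] [HopfAlgebra k A]

/-- the antipode of a commutative Hopf algebra is an involution -/
theorem antipode_antipode (a : A) :
    HopfAlgebraStruct.antipode k (HopfAlgebraStruct.antipode k a) = a := by
  have h1 : (WithConv.toConv (AlgHom.id k A))⁻¹ =
      WithConv.toConv (HopfAlgebra.antipodeAlgHom k A) :=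
    congrArg WithConv.toConv (AlgHom.id_comp _)
  have h2 : (WithConv.toConv (HopfAlgebra.antipodeAlgHom k A))⁻¹ =
      WithConv.toConv ((HopfAlgebra.antipodeAlgHom k A).comp (HopfAlgebra.antipodeAlgHom k A)) :=
    rfl
  have h3 := inv_inv (WithConv.toConv (AlgHom.id k A))
  rw [h1, h2] at h3
  exact AlgHom.congr_fun (congrArg WithConv.ofConv h3) a

end Anti

section
variable {k : Type u} [Field k] {A : Type v} [CommRing A] [HopfAlgebra k A]

/-- a subalgebra stable under comultiplication and antipode -/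
def IsHopfSub (S : Subalgebra k A) : Prop :=
  (∀ b ∈ S, Coalgebra.comul (R := k) b ∈ (incl₂ S).range) ∧
    ∀ b ∈ S, HopfAlgebraStruct.antipode k b ∈ S

lemma incl₂_comp_inclusion {S S' : Subalgebra k A} (h : S ≤ S') :
    (incl₂ S').comp (Algebra.TensorProduct.map (Subalgebra.inclusion h) (Subalgebra.inclusion h)) =
      incl₂ S :=
  Algebra.TensorProduct.ext' (fun _ _ => rfl)

lemma incl₂_range_mono {S S' : Subalgebra k A} (h : S ≤ S') :
    (incl₂ S).range ≤ (incl₂ S').range := by
  intro x hx
  obtain ⟨t, rfl⟩ := (AlgHom.mem_range _).1 hx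
  exact (AlgHom.mem_range _).2 ⟨_, AlgHom.congr_fun (incl₂_comp_inclusion h) t⟩

/-- elements whose comultiplication lies in `S ⊗ S` -/
noncomputable def comulSub (S : Subalgebra k A) : Subalgebra k A :=
  (incl₂ S).range.comap (Bialgebra.comulAlgHom k A)

lemma mem_comulSub {S : Subalgebra k A} {b : A} :
    b ∈ comulSub S ↔ Coalgebra.comul (R := k) b ∈ (incl₂ S).range := Iff.rfl

/-- elements whose antipode lies in `S` -/
noncomputable def antiSub (S : Subalgebra k A) : Subalgebra k A :=
  S.comap (HopfAlgebra.antipodeAlgHom k A)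

lemma mem_antiSub {S : Subalgebra k A} {b : A} :
    b ∈ antiSub S ↔ HopfAlgebraStruct.antipode k b ∈ S := Iff.rfl

lemma isHopfSub_iff {S : Subalgebra k A} : IsHopfSub S ↔ S ≤ comulSub S ∧ S ≤ antiSub S :=
  ⟨fun h => ⟨fun b hb => h.1 b hb, fun b hb => h.2 b hb⟩,
    fun h => ⟨fun b hb => h.1 hb, fun b hb => h.2 hb⟩⟩

lemma IsHopfSub.sup {S S' : Subalgebra k A} (h : IsHopfSub S) (h' : IsHopfSub S') :
    IsHopfSub (S ⊔ S') := by
  rw [isHopfSub_iff]
  constructor
  · exact sup_le (fun b hb => incl₂_range_mono le_sup_left (h.1 b hb))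
      (fun b hb => incl₂_range_mono le_sup_right (h'.1 b hb))
  · exact sup_le (fun b hb => (le_sup_left : S ≤ S ⊔ S') (h.2 b hb))
      (fun b hb => (le_sup_right : S' ≤ S ⊔ S') (h'.2 b hb))

/-- every finite set lies in a finitely generated Hopf subalgebra -/
theorem exists_fg_hopfSub (T : Finset A) :
    ∃ B : Subalgebra k A, (↑T : Set A) ⊆ B ∧ B.FG ∧ IsHopfSub B := by
  classical
  obtain ⟨D, hDfin, hTD, hDcomul⟩ := Groth.Agent.S8220.result (k := k) (A := A) T
  obtain ⟨t, ht⟩ : ∃ t : Finset A, Submodule.span k (t : Set A) = D := Module.Finite.iff_fg.mp hDfin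
  set S := HopfAlgebra.antipodeAlgHom k A with hS
  have hSapp : ∀ a, S a = HopfAlgebraStruct.antipode k a := fun _ => rfl
  set B : Subalgebra k A := Algebra.adjoin k ((t : Set A) ∪ S '' (t : Set A)) with hB
  have hDB : D ≤ Subalgebra.toSubmodule B := by
    rw [← ht, Submodule.span_le]
    intro a ha
    exact Algebra.subset_adjoin (Or.inl ha)
  have hSD : ∀ d ∈ D, S d ∈ B := by
    intro d hd
    rw [← ht] at hd
    refine Submodule.span_induction (p := fun d _ => S d ∈ B) ?_ ?_ ?_ ?_ hd
    · intro a ha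
      exact Algebra.subset_adjoin (Or.inr ⟨a, ha, rfl⟩)
    · rw [map_zero]; exact B.zero_mem
    · intro a b _ _ ha hb
      rw [map_add]; exact B.add_mem ha hb
    · intro c a _ ha
      rw [map_smul]; exact B.smul_mem ha c
  have hSB : ∀ b ∈ B, S b ∈ B := by
    have hle : B.map S ≤ B := by
      rw [hB, AlgHom.map_adjoin]
      apply Algebra.adjoin_le
      rintro _ ⟨a, ha | ⟨a', ha', rfl⟩, rfl⟩
      · exact Algebra.subset_adjoin (Or.inr ⟨a, ha, rfl⟩)
      · rw [hSapp, hSapp, antipode_antipode]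
        exact Algebra.subset_adjoin (Or.inl ha')
    intro b hb
    exact hle ⟨b, hb, rfl⟩
  set R : Subalgebra k (A ⊗[k] A) := (incl₂ B).range with hR
  have hDD : ∀ w : D ⊗[k] D, TensorProduct.map D.subtype D.subtype w ∈ R := by
    intro w
    induction w using TensorProduct.induction_on with
    | zero => rw [map_zero]; exact R.zero_mem
    | tmul a b =>
      exact ⟨(⟨a.1, hDB a.2⟩ : B) ⊗ₜ[k] (⟨b.1, hDB b.2⟩ : B), rfl⟩
    | add x y hx hy => rw [map_add]; exact R.add_mem hx hy
  have hDD' : ∀ w : D ⊗[k] D, TensorProduct.map (HopfAlgebraStruct.antipode k)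
      (HopfAlgebraStruct.antipode k) (TensorProduct.comm k A A
        (TensorProduct.map D.subtype D.subtype w)) ∈ R := by
    intro w
    induction w using TensorProduct.induction_on with
    | zero => simp only [map_zero]; exact R.zero_mem
    | tmul a b =>
      exact ⟨(⟨S b.1, hSD _ b.2⟩ : B) ⊗ₜ[k] (⟨S a.1, hSD _ a.2⟩ : B), rfl⟩
    | add x y hx hy => simp only [map_add]; exact R.add_mem hx hy
  have hcomulB : B ≤ R.comap (Bialgebra.comulAlgHom k A) := by
    rw [hB]
    apply Algebra.adjoin_le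
    rintro a (ha | ⟨a', ha', rfl⟩)
    · have haD : a ∈ D := by rw [← ht]; exact Submodule.subset_span ha
      obtain ⟨w, hw⟩ := hDcomul a haD
      show CoalgebraStruct.comul (R := k) a ∈ R
      rw [← hw]
      exact hDD w
    · have haD : a' ∈ D := by rw [← ht]; exact Submodule.subset_span ha'
      obtain ⟨w, hw⟩ := hDcomul a' haD
      show CoalgebraStruct.comul (R := k) (HopfAlgebraStruct.antipode k a') ∈ R
      rw [Groth.Agent.H83.comul_antipode, ← hw]
      exact hDD' w
  exact ⟨B, fun x hx => hDB (hTD hx),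
    ⟨t ∪ t.image S, by rw [hB, Finset.coe_union, Finset.coe_image]⟩,
    fun b hb => hcomulB hb, fun b hb => hSB b hb⟩

/-! ### the Hopf algebra structure on a Hopf subalgebra -/

variable (S : Subalgebra k A) (hS : IsHopfSub S)

/-- restricted antipode -/
noncomputable def subAntipode : ↥S →ₗ[k] ↥S where
  toFun b := ⟨HopfAlgebraStruct.antipode k (b : A), hS.2 b b.2⟩
  map_add' a b := Subtype.ext (by simp)
  map_smul' c a := Subtype.ext (by simp)

lemma coe_subAntipode (b : ↥S) :
    ((subAntipode S hS b : ↥S) : A) = HopfAlgebraStruct.antipode k (b : A) := rfl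

lemma val_mul'_rTensor (t : ↥S ⊗[k] ↥S) :
    ((LinearMap.mul' k ↥S ((subAntipode S hS).rTensor ↥S t) : ↥S) : A) =
      LinearMap.mul' k A ((HopfAlgebraStruct.antipode k).rTensor A (incl₂ S t)) := by
  induction t using TensorProduct.induction_on with
  | zero => simp
  | tmul a b => rfl
  | add x y hx hy => simp only [map_add, Subalgebra.coe_add, hx, hy]

lemma val_mul'_lTensor (t : ↥S ⊗[k] ↥S) :
    ((LinearMap.mul' k ↥S ((subAntipode S hS).lTensor ↥S t) : ↥S) : A) =
      LinearMap.mul' k A ((HopfAlgebraStruct.antipode k).lTensor A (incl₂ S t)) := by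
  induction t using TensorProduct.induction_on with
  | zero => simp
  | tmul a b => rfl
  | add x y hx hy => simp only [map_add, Subalgebra.coe_add, hx, hy]

/-- A Hopf subalgebra is a Hopf algebra. -/
@[reducible] noncomputable def subHopf : HopfAlgebra k ↥S :=
  { toBialgebra := subBialgebra S hS.1
    antipode := subAntipode S hS
    mul_antipode_rTensor_comul := by
      refine LinearMap.ext fun b => Subtype.ext ?_
      have h1 := val_mul'_rTensor S hS (subComul S hS.1 b)
      rw [incl₂_subComul, HopfAlgebra.mul_antipode_rTensor_comul_apply] at h1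
      exact h1
    mul_antipode_lTensor_comul := by
      refine LinearMap.ext fun b => Subtype.ext ?_
      have h1 := val_mul'_lTensor S hS (subComul S hS.1 b)
      rw [incl₂_subComul, HopfAlgebra.mul_antipode_lTensor_comul_apply] at h1
      exact h1 }

/-! ### inclusions of Hopf subalgebras -/

section Incl
variable {S₀ S₁ : Subalgebra k A} (h₀ : IsHopfSub S₀) (h₁ : IsHopfSub S₁) (hle : S₀ ≤ S₁)

/-- the inclusion of Hopf subalgebras as a bialgebra map -/
noncomputable def inclHom :
    letI := subHopf S₀ h₀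
    letI := subHopf S₁ h₁
    ↥S₀ →ₐc[k] ↥S₁ :=
  letI := subHopf S₀ h₀
  letI := subHopf S₁ h₁
  BialgHom.ofAlgHom (Subalgebra.inclusion hle)
    (by apply AlgHom.ext; intro b; rfl)
    (by
      apply AlgHom.ext
      intro b
      apply incl₂_injective S₁
      show incl₂ S₁ (Algebra.TensorProduct.map (Subalgebra.inclusion hle)
          (Subalgebra.inclusion hle) (subComul S₀ h₀.1 b)) =
        incl₂ S₁ (subComul S₁ h₁.1 (Subalgebra.inclusion hle b))
      rw [incl₂_subComul, ← AlgHom.comp_apply, incl₂_comp_inclusion hle, incl₂_subComul]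
      rfl)

lemma inclHom_apply (b : ↥S₀) :
    letI := subHopf S₀ h₀
    letI := subHopf S₁ h₁
    (inclHom h₀ h₁ hle) b = Subalgebra.inclusion hle b := rfl

lemma inclHom_injective :
    letI := subHopf S₀ h₀
    letI := subHopf S₁ h₁
    Function.Injective (inclHom h₀ h₁ hle) :=
  Subalgebra.inclusion_injective hle

end Incl

/-- push forward a Hopf subalgebra of `↥S` to `A` -/
lemma IsHopfSub.map_val (B' : Subalgebra k ↥S)
    (hB' : letI := subHopf S hS; IsHopfSub B') : IsHopfSub (B'.map S.val) := by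
  letI := subHopf S hS
  constructor
  · rintro _ ⟨b', hb', rfl⟩
    obtain ⟨t, ht⟩ := (AlgHom.mem_range _).1 (hB'.1 b' hb')
    have h1 : incl₂ S (subComul S hS.1 b') = Coalgebra.comul (R := k) (b' : A) :=
      incl₂_subComul S hS.1 b'
    have ht' : incl₂ B' t = subComul S hS.1 b' := ht
    let e : ↥B' →ₐ[k] ↥(B'.map S.val) :=
      (S.val.comp B'.val).codRestrict (B'.map S.val) (fun x => ⟨x.1, x.2, rfl⟩)
    refine (AlgHom.mem_range _).2 ⟨Algebra.TensorProduct.map e e t, ?_⟩
    have hc : (incl₂ (B'.map S.val)).comp (Algebra.TensorProduct.map e e) =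
        (incl₂ S).comp (incl₂ B') := Algebra.TensorProduct.ext' (fun a b => rfl)
    calc incl₂ (B'.map S.val) (Algebra.TensorProduct.map e e t)
        = (incl₂ S) (incl₂ B' t) := AlgHom.congr_fun hc t
      _ = _ := by rw [ht', h1]; rfl
  · rintro _ ⟨b', hb', rfl⟩
    exact ⟨_, hB'.2 b' hb', rfl⟩

/-- every finite subset of a Hopf subalgebra `S` lies in a finitely generated Hopf subalgebra
contained in `S` -/
theorem exists_fg_hopfSub_le (hS : IsHopfSub S) (T : Finset A) (hT : (↑T : Set A) ⊆ S) :
    ∃ B : Subalgebra k A, (↑T : Set A) ⊆ B ∧ B ≤ S ∧ B.FG ∧ IsHopfSub B := by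
  classical
  letI := subHopf S hS
  let T' : Finset ↥S := T.attach.image (fun x : {x // x ∈ T} => (⟨(x : A), hT x.2⟩ : ↥S))
  obtain ⟨B', hT', hfg, hB'⟩ := exists_fg_hopfSub (k := k) (A := ↥S) T'
  refine ⟨B'.map S.val, ?_, ?_, hfg.map _, hS.map_val S B' hB'⟩
  · intro x hx
    refine ⟨⟨x, hT hx⟩, hT' ?_, rfl⟩
    rw [Finset.mem_coe, Finset.mem_image]
    exact ⟨⟨x, hx⟩, Finset.mem_attach _ _, rfl⟩
  · rintro _ ⟨b', _, rfl⟩
    exact b'.2

end

section Chain

lemma mem_sSup_of_chain {R M : Type*} [CommSemiring R] [Semiring M] [Algebra R M]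
    {c : Set (Subalgebra R M)} (hne : c.Nonempty) (hc : IsChain (· ≤ ·) c) {x : M} :
    x ∈ sSup c ↔ ∃ Γ ∈ c, x ∈ Γ := by
  haveI : Nonempty c := hne.to_subtype
  have hdir : Directed (· ≤ ·) (Subtype.val : c → Subalgebra R M) := hc.directedOn.directed_val
  rw [sSup_eq_iSup', ← SetLike.mem_coe, Subalgebra.coe_iSup_of_directed hdir, Set.mem_iUnion]
  constructor
  · rintro ⟨i, hi⟩; exact ⟨i.1, i.2, hi⟩
  · rintro ⟨Γ, hΓ, hx⟩; exact ⟨⟨Γ, hΓ⟩, hx⟩

end Chain

end Groth.Agent.H1.HopfSub
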